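import Mathlib

/-!
The fundamental theorem of projective geometry over a finite field, stated for maps of vectors
taken up to scalars.
-/

set_option autoImplicit false

namespace CfsgLib.ProjGeom

open Matrix

variable {ι : Type*} {F : Type*} [Field F]

/-- Two vectors span the same line. -/
def Prop1 (v w : ι → F) : Prop := ∃ c : F, c ≠ 0 ∧ w = c • v

theorem prop1_refl (v : ι → F) : Prop1 v v := ⟨1, one_ne_zero, (one_smul F v).symm⟩

theorem Prop1.symm {v w : ι → F} (h : Prop1 v w) : Prop1 w v := by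
  obtain ⟨c, hc, rfl⟩ := h
  exact ⟨c⁻¹, inv_ne_zero hc, by rw [inv_smul_smul₀ hc]⟩

theorem Prop1.trans {u v w : ι → F} (h : Prop1 u v) (h' : Prop1 v w) : Prop1 u w := by
  obtain ⟨c, hc, rfl⟩ := h
  obtain ⟨d, hd, rfl⟩ := h'
  exact ⟨d * c, mul_ne_zero hd hc, smul_smul d c u⟩

theorem Prop1.mem_iff {v w : ι → F} (h : Prop1 v w) (W : Submodule F (ι → F)) : w ∈ W ↔ v ∈ W := by
  obtain ⟨c, hc, rfl⟩ := h
  exact W.smul_mem_iff hc

theorem prop1_of_mem_span_singleton {v w : ι → F} (hw : w ≠ 0) (h : w ∈ Submodule.span F {v}) :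
    Prop1 v w := by
  obtain ⟨c, rfl⟩ := Submodule.mem_span_singleton.1 h
  exact ⟨c, fun h0 => hw (by rw [h0, zero_smul]), rfl⟩

/-- A map of non-zero vectors that preserves and reflects membership in lines. -/
structure IsCollineation (f : (ι → F) → (ι → F)) : Prop where
  ne_zero : ∀ v, v ≠ 0 → f v ≠ 0
  line_iff : ∀ u v w, u ≠ 0 → v ≠ 0 → w ≠ 0 →
    (f u ∈ Submodule.span F {f v, f w} ↔ u ∈ Submodule.span F {v, w})
  surj : ∀ w, w ≠ 0 → ∃ v, v ≠ 0 ∧ Prop1 w (f v)

namespace IsCollineation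

variable {f : (ι → F) → (ι → F)}

theorem prop1_iff (hf : IsCollineation f) {v w : ι → F} (hv : v ≠ 0) (hw : w ≠ 0) :
    Prop1 (f v) (f w) ↔ Prop1 v w := by
  have h1 := hf.line_iff w v v hw hv hv
  simp only [Set.insert_eq_of_mem (Set.mem_singleton _)] at h1
  constructor
  · rintro ⟨c, -, hcw⟩
    exact prop1_of_mem_span_singleton hw
      (h1.1 (Submodule.mem_span_singleton.2 ⟨c, hcw.symm⟩))
  · rintro ⟨c, -, hcw⟩
    exact prop1_of_mem_span_singleton (hf.ne_zero _ hw)
      (h1.2 (Submodule.mem_span_singleton.2 ⟨c, hcw.symm⟩))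

/-- Membership in spans of finitely many vectors is preserved and reflected. -/
theorem span_iff (hf : IsCollineation f) {α : Type*} [DecidableEq α] (v : α → ι → F)
    (hv : ∀ a, v a ≠ 0) (s : Finset α) : ∀ u, u ≠ 0 →
    (f u ∈ Submodule.span F ((fun a => f (v a)) '' s) ↔ u ∈ Submodule.span F (v '' s)) := by
  induction s using Finset.induction with
  | empty => intro u hu; simp [hu, hf.ne_zero u hu]
  | insert a s ha ih =>
    intro u hu
    rw [Finset.coe_insert, Set.image_insert_eq, Set.image_insert_eq]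
    constructor
    · intro h
      obtain ⟨c, z, hz, he⟩ := Submodule.mem_span_insert.1 h
      rcases eq_or_ne z 0 with rfl | hz0
      · rw [add_zero] at he
        have h1 : Prop1 (v a) u := (hf.prop1_iff (hv a) hu).1
          (prop1_of_mem_span_singleton (hf.ne_zero u hu) (Submodule.mem_span_singleton.2 ⟨c, he.symm⟩))
        exact (h1.mem_iff _).2 (Submodule.subset_span (Set.mem_insert _ _))
      obtain ⟨w, hw0, hw⟩ := hf.surj z hz0
      have h1 : w ∈ Submodule.span F (v '' s) := (ih w hw0).1 ((hw.mem_iff _).2 hz)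
      have h2 : u ∈ Submodule.span F {v a, w} := by
        refine (hf.line_iff u (v a) w hu (hv a) hw0).1 ?_
        rw [he]
        refine add_mem (Submodule.smul_mem _ _ (Submodule.subset_span (by simp))) ?_
        exact (hw.mem_iff _).1 (Submodule.subset_span (by simp))
      refine Submodule.span_le.2 ?_ h2
      intro x hx
      rcases hx with rfl | hx
      · exact Submodule.subset_span (Set.mem_insert _ _)
      · rw [Set.mem_singleton_iff.1 hx]
        exact Submodule.span_mono (Set.subset_insert _ _) h1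
    · intro h
      obtain ⟨c, z, hz, he⟩ := Submodule.mem_span_insert.1 h
      rcases eq_or_ne z 0 with rfl | hz0
      · rw [add_zero] at he
        have h1 : Prop1 (f (v a)) (f u) := (hf.prop1_iff (hv a) hu).2
          (prop1_of_mem_span_singleton hu (Submodule.mem_span_singleton.2 ⟨c, he.symm⟩))
        exact (h1.mem_iff _).2 (Submodule.subset_span (Set.mem_insert _ _))
      have h2 : f u ∈ Submodule.span F {f (v a), f z} := by
        refine (hf.line_iff u (v a) z hu (hv a) hz0).2 ?_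
        rw [he]
        exact add_mem (Submodule.smul_mem _ _ (Submodule.subset_span (by simp)))
          (Submodule.subset_span (by simp))
      refine Submodule.span_le.2 ?_ h2
      intro x hx
      rcases hx with rfl | hx
      · exact Submodule.subset_span (Set.mem_insert _ _)
      · rw [Set.mem_singleton_iff.1 hx]
        exact Submodule.span_mono (Set.subset_insert _ _) ((ih z hz0).2 hz)

end IsCollineation

section coordinates

variable [Fintype ι] [DecidableEq ι]

theorem mem_span_single_iff (s : Finset ι) (x : ι → F) :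
    x ∈ Submodule.span F ((fun i => (Pi.single i 1 : ι → F)) '' s) ↔ ∀ i ∉ s, x i = 0 := by
  constructor
  · intro h i hi
    induction h using Submodule.span_induction with
    | mem y hy =>
      obtain ⟨j, hj, rfl⟩ := hy
      exact Pi.single_eq_of_ne (fun he : i = j => hi (he ▸ hj)) _
    | zero => rfl
    | add y z _ _ hy hz => simp [hy, hz]
    | smul c y _ hy => simp [hy]
  · intro h
    have hx : x = ∑ i ∈ s, x i • (Pi.single i 1 : ι → F) := by
      funext j
      rw [Finset.sum_apply]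
      simp only [Pi.smul_apply, smul_eq_mul, Pi.single_apply, mul_ite, mul_one, mul_zero,
        Finset.sum_ite_eq]
      split
      · rfl
      · next hj => exact h j hj
    rw [hx]
    exact Submodule.sum_mem _ fun i hi =>
      Submodule.smul_mem _ _ (Submodule.subset_span ⟨i, hi, rfl⟩)

theorem ne_zero_of_apply {x : ι → F} {i : ι} (h : x i ≠ 0) : x ≠ 0 := fun h0 => h (by rw [h0]; rfl)

/-- Collineations are semilinear. -/
theorem exists_semilinear [Finite F] {o k₁ k₂ : ι} (h1 : k₁ ≠ o) (h2 : k₂ ≠ o) (h12 : k₁ ≠ k₂)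
    {f : (ι → F) → (ι → F)} (hf : IsCollineation f) :
    ∃ (g : GL ι F) (σ : RingAut F),
      ∀ v, v ≠ 0 → Prop1 (g.1 *ᵥ fun i => σ (v i)) (f v) := by
  classical
  set e : ι → ι → F := fun i => Pi.single i 1 with he
  have he0 : ∀ i, e i ≠ 0 := fun i => ne_zero_of_apply (i := i) (by simp [he])
  -- the scaled basis
  have hb : ∀ i, ∃ c : F, c ≠ 0 ∧ (i = o → c = 1) ∧
      (i ≠ o → Prop1 (f (e o) + c • f (e i)) (f (e o + e i))) := by
    intro i
    rcases eq_or_ne i o with rfl | hio
    · exact ⟨1, one_ne_zero, fun _ => rfl, fun h => absurd rfl h⟩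
    have hs0 : e o + e i ≠ 0 := ne_zero_of_apply (i := o) (by simp [he, hio.symm])
    have hmem := (hf.line_iff _ _ _ hs0 (he0 o) (he0 i)).2
      (add_mem (Submodule.subset_span (by simp)) (Submodule.subset_span (by simp)))
    obtain ⟨α, β, hab⟩ := Submodule.mem_span_pair.1 hmem
    have hα : α ≠ 0 := by
      intro h0
      rw [h0, zero_smul, zero_add] at hab
      have := (hf.prop1_iff (he0 i) hs0).1
        (prop1_of_mem_span_singleton (hf.ne_zero _ hs0) (Submodule.mem_span_singleton.2 ⟨β, hab⟩))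
      obtain ⟨c, -, hc⟩ := this
      simpa [he, hio.symm] using congrFun hc o
    have hβ : β ≠ 0 := by
      intro h0
      rw [h0, zero_smul, add_zero] at hab
      have := (hf.prop1_iff (he0 o) hs0).1
        (prop1_of_mem_span_singleton (hf.ne_zero _ hs0) (Submodule.mem_span_singleton.2 ⟨α, hab⟩))
      obtain ⟨c, -, hc⟩ := this
      simpa [he, hio] using congrFun hc i
    refine ⟨β / α, div_ne_zero hβ hα, fun h => absurd h hio, fun _ => ⟨α, hα, ?_⟩⟩
    rw [← hab, smul_add, smul_smul, mul_div_cancel₀ _ hα]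
  choose c hc0 hco hcs using hb
  set M : Matrix ι ι F := Matrix.of fun r i => c i * f (e i) r with hM
  have hMe : ∀ i, M *ᵥ e i = c i • f (e i) := fun i => by
    funext r; simp [hM, he, Matrix.mulVec_single_one]
  have hMsum : ∀ x : ι → F, M *ᵥ x = ∑ i, x i • (c i • f (e i)) := by
    intro x
    funext r
    simp [hM, Matrix.mulVec, dotProduct, Finset.sum_apply, mul_comm, mul_left_comm]
  have hMdet : M.det ≠ 0 := by
    intro h0
    obtain ⟨x, hx0, hx⟩ := Matrix.exists_mulVec_eq_zero_iff.2 h0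
    obtain ⟨i, hi⟩ := Function.ne_iff.1 hx0
    rw [hMsum, ← Finset.add_sum_erase _ _ (Finset.mem_univ i)] at hx
    have hspan : f (e i) ∈ Submodule.span F ((fun a => f (e a)) '' (Finset.univ.erase i : Finset ι)) := by
      have h3 : f (e i) =
          (-(x i * c i)⁻¹) • ∑ a ∈ Finset.univ.erase i, x a • (c a • f (e a)) := by
        rw [neg_smul, ← smul_neg, ← eq_neg_of_add_eq_zero_left hx, smul_smul (x i),
          inv_smul_smul₀ (mul_ne_zero hi (hc0 i))]
      rw [h3]
      refine Submodule.smul_mem _ _ (Submodule.sum_mem _ fun a ha => ?_)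
      exact Submodule.smul_mem _ _ (Submodule.smul_mem _ _ (Submodule.subset_span ⟨a, ha, rfl⟩))
    have h4 := (mem_span_single_iff _ _).1 ((hf.span_iff e he0 _ _ (he0 i)).1 hspan) i
      (by simp)
    simp [he] at h4
  set g : GL ι F := Matrix.GeneralLinearGroup.mkOfDetNeZero M hMdet with hg
  set f' : (ι → F) → (ι → F) := fun v => g⁻¹.1 *ᵥ f v with hf'
  have hgf : ∀ v, g.1 *ᵥ f' v = f v := fun v => by
    rw [hf']; simp only; rw [Matrix.mulVec_mulVec, ← Units.val_mul, mul_inv_cancel, Units.val_one,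
      Matrix.one_mulVec]
  have hginj : ∀ x y, g.1 *ᵥ x = g.1 *ᵥ y → x = y := by
    intro x y h
    have := congrArg (g⁻¹.1 *ᵥ ·) h
    simpa only [Matrix.mulVec_mulVec, ← Units.val_mul, inv_mul_cancel, Units.val_one,
      Matrix.one_mulVec] using this
  have hf'C : IsCollineation f' := by
    refine ⟨fun v hv h0 => hf.ne_zero v hv (by rw [← hgf, h0, Matrix.mulVec_zero]), ?_, ?_⟩
    · intro u v w hu hv hw
      rw [← hf.line_iff u v w hu hv hw, Submodule.mem_span_pair, Submodule.mem_span_pair]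
      constructor
      · rintro ⟨a, b, h⟩
        refine ⟨a, b, ?_⟩
        rw [← hgf u, ← h, Matrix.mulVec_add, Matrix.mulVec_smul, Matrix.mulVec_smul, hgf, hgf]
      · rintro ⟨a, b, h⟩
        refine ⟨a, b, hginj _ _ ?_⟩
        rw [Matrix.mulVec_add, Matrix.mulVec_smul, Matrix.mulVec_smul, hgf, hgf, hgf, h]
    · intro w hw
      obtain ⟨v, hv, c', hc', hcv⟩ := hf.surj (g.1 *ᵥ w)
        (fun h => hw (hginj _ _ (by rw [h, Matrix.mulVec_zero])))
      exact ⟨v, hv, c', hc', hginj _ _ (by rw [hgf, hcv, Matrix.mulVec_smul])⟩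
  have hfe : ∀ i, Prop1 (e i) (f' (e i)) := by
    intro i
    refine ⟨(c i)⁻¹, inv_ne_zero (hc0 i), hginj _ _ ?_⟩
    rw [hgf, Matrix.mulVec_smul, show g.1 = M from rfl, hMe, inv_smul_smul₀ (hc0 i)]
  have hfs : ∀ i, i ≠ o → Prop1 (e o + e i) (f' (e o + e i)) := by
    intro i hi
    obtain ⟨d, hd, hde⟩ := hcs i hi
    refine ⟨d, hd, hginj _ _ ?_⟩
    rw [hgf, Matrix.mulVec_smul, Matrix.mulVec_add, show g.1 = M from rfl, hMe, hMe, hco o rfl,
      one_smul, hde]
  -- coordinates of images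
  have hvanish : ∀ (s : Finset ι) u, u ≠ 0 →
      ((∀ i ∉ s, f' u i = 0) ↔ ∀ i ∉ s, u i = 0) := by
    intro s u hu
    rw [← mem_span_single_iff, ← mem_span_single_iff]
    rw [← hf'C.span_iff e he0 s u hu]
    have : Submodule.span F ((fun a => f' (e a)) '' (s : Set ι)) =
        Submodule.span F (e '' (s : Set ι)) := by
      apply le_antisymm <;> rw [Submodule.span_le] <;> rintro _ ⟨a, ha, rfl⟩
      · exact ((hfe a).mem_iff _).2 (Submodule.subset_span ⟨a, ha, rfl⟩)
      · exact ((hfe a).mem_iff _).1 (Submodule.subset_span ⟨a, ha, rfl⟩)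
    rw [this]
  have hsupp : ∀ u, u ≠ 0 → ∀ i, (f' u i = 0 ↔ u i = 0) := by
    intro u hu i
    have h := hvanish (Finset.univ.erase i) u hu
    simpa using h
  -- the field maps
  set τ : ι → F → F := fun i a => f' (e o + a • e i) i / f' (e o + a • e i) o with hτ
  have hvec0 : ∀ i, i ≠ o → ∀ a : F, e o + a • e i ≠ 0 := fun i hi a =>
    ne_zero_of_apply (i := o) (by simp [he, hi.symm])
  have hpair : ∀ i, i ≠ o → ∀ a : F, f' (e o + a • e i) o ≠ 0 ∧
      ∀ j, j ≠ o → j ≠ i → f' (e o + a • e i) j = 0 := by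
    intro i hi a
    constructor
    · rw [Ne, hsupp _ (hvec0 i hi a)]; simp [he, hi.symm]
    · intro j hjo hji
      rw [hsupp _ (hvec0 i hi a)]; simp [he, hjo, hji]
  have haff : ∀ u, u o = 1 → ∀ i, i ≠ o → f' u i = f' u o * τ i (u i) := by
    intro u huo i hi
    have hu : u ≠ 0 := ne_zero_of_apply (i := o) (by rw [huo]; exact one_ne_zero)
    set p := e o + u i • e i with hp
    have hp0 : p ≠ 0 := hvec0 i hi _
    let v : Option ι → ι → F := fun a => a.elim p e
    have hv : ∀ a, v a ≠ 0 := fun a => by cases a; exacts [hp0, he0 _]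
    set s : Finset (Option ι) := insert none ((Finset.univ \ {o, i}).image some) with hs
    have hmem : u ∈ Submodule.span F (v '' s) := by
      rw [hs, Finset.coe_insert, Set.image_insert_eq]
      refine Submodule.mem_span_insert.2 ⟨1, u - p, ?_, by rw [one_smul]; exact (add_sub_cancel p u).symm⟩
      rw [Finset.coe_image, Set.image_image]
      refine (mem_span_single_iff _ _).2 fun j hj => ?_
      simp only [Finset.mem_sdiff, Finset.mem_univ, true_and, Finset.mem_insert,
        Finset.mem_singleton, not_not] at hj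
      rcases hj with rfl | rfl
      · simp [hp, he, hi.symm, huo]
      · simp [hp, he, hi]
    have him := (hf'C.span_iff v hv s u hu).2 hmem
    rw [hs, Finset.coe_insert, Set.image_insert_eq] at him
    obtain ⟨d, z, hz, hdz⟩ := Submodule.mem_span_insert.1 him
    have hz' : z o = 0 ∧ z i = 0 := by
      rw [Finset.coe_image, Set.image_image] at hz
      have hz2 : z ∈ Submodule.span F (e '' ((Finset.univ \ {o, i} : Finset ι) : Set ι)) := by
        refine Submodule.span_le.2 ?_ hz
        rintro _ ⟨a, ha, rfl⟩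
        exact ((hfe a).mem_iff _).2 (Submodule.subset_span ⟨a, ha, rfl⟩)
      exact ⟨(mem_span_single_iff _ _).1 hz2 o (by simp), (mem_span_single_iff _ _).1 hz2 i (by simp)⟩
    rw [hdz, Pi.add_apply, Pi.add_apply, hz'.1, hz'.2, add_zero, add_zero, Pi.smul_apply,
      Pi.smul_apply, smul_eq_mul, smul_eq_mul, hτ]
    show d * f' p i = d * f' p o * (f' p i / f' p o)
    rw [mul_assoc, mul_div_cancel₀ _ (hpair i hi _).1]
  have hlin : ∀ u, u ≠ 0 → u o = 0 → ∃ d : F, d ≠ 0 ∧ ∀ i, i ≠ o → f' u i = d * τ i (u i) := by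
    intro u hu huo
    have hw0 : e o + u ≠ 0 := ne_zero_of_apply (i := o) (by simp [he, huo])
    have hmem : u ∈ Submodule.span F {e o + u, e o} :=
      Submodule.mem_span_pair.2 ⟨1, -1, by simp⟩
    obtain ⟨d, d', hdd⟩ := Submodule.mem_span_pair.1 ((hf'C.line_iff _ _ _ hu hw0 (he0 o)).2 hmem)
    have hcoord : ∀ i, i ≠ o → f' u i = d * f' (e o + u) o * τ i (u i) := by
      intro i hi
      have h1 : f' (e o) i = 0 := by rw [hsupp _ (he0 o)]; simp [he, hi]
      have h2 := haff (e o + u) (by simp [he, huo]) i hi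
      rw [show (e o + u) i = u i by simp [he, hi]] at h2
      rw [← hdd, Pi.add_apply, Pi.smul_apply, Pi.smul_apply, h1, h2, smul_eq_mul, smul_zero,
        add_zero, mul_assoc]
    refine ⟨d * f' (e o + u) o, ?_, hcoord⟩
    intro h0
    refine hf'C.ne_zero u hu (funext fun i => ?_)
    rcases eq_or_ne i o with rfl | hi
    · rw [Pi.zero_apply, hsupp _ hu]; exact huo
    · rw [hcoord i hi, h0, zero_mul, Pi.zero_apply]
  have hτ1 : ∀ i, i ≠ o → τ i 1 = 1 := by
    intro i hi
    obtain ⟨d, hd, hde⟩ := hfs i hi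
    rw [hτ]
    simp only [one_smul, hde, Pi.smul_apply, Pi.add_apply, smul_eq_mul]
    simp [he, hi, hi.symm, hd]
  have hτ0 : ∀ i, i ≠ o → τ i 0 = 0 := by
    intro i hi
    rw [hτ]
    simp only [zero_smul, add_zero, div_eq_zero_iff]
    left
    rw [hsupp _ (he0 o)]; simp [he, hi]
  have hτne : ∀ i, i ≠ o → ∀ a : F, a ≠ 0 → τ i a ≠ 0 := by
    intro i hi a ha
    refine div_ne_zero ?_ (hpair i hi a).1
    rw [Ne, hsupp _ (hvec0 i hi a)]; simp [he, hi, ha]
  have hτeq : ∀ i k, i ≠ o → k ≠ o → i ≠ k → ∀ a : F, τ i a = τ k a := by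
    intro i k hi hk hik a
    rcases eq_or_ne a 0 with rfl | ha
    · rw [hτ0 i hi, hτ0 k hk]
    have hu0 : e i + e k ≠ 0 := ne_zero_of_apply (i := i) (by simp [he, hik])
    obtain ⟨d, hd, hd'⟩ := hlin (e i + e k) hu0 (by simp [he, hi.symm, hk.symm])
    obtain ⟨d2, hd2, hd2'⟩ := hlin (a • (e i + e k)) (smul_ne_zero ha hu0)
      (by simp [he, hi.symm, hk.symm])
    obtain ⟨μ, hμ, hμe⟩ := (hf'C.prop1_iff hu0 (smul_ne_zero ha hu0)).2 ⟨a, ha, rfl⟩
    have e1 := congrFun hμe i
    have e2 := congrFun hμe k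
    rw [Pi.smul_apply, smul_eq_mul, hd' i hi, hd2' i hi] at e1
    rw [Pi.smul_apply, smul_eq_mul, hd' k hk, hd2' k hk] at e2
    simp [he, hik, hik.symm, hτ1 i hi, hτ1 k hk] at e1 e2
    exact mul_left_cancel₀ hd2 (e1.trans e2.symm)
  set σ : F → F := τ k₁ with hσ
  have hτσ : ∀ i, i ≠ o → ∀ a : F, τ i a = σ a := by
    intro i hi a
    rcases eq_or_ne i k₁ with rfl | hne
    · rfl
    · exact hτeq i k₁ hi h1 hne a
  have hmul : ∀ a b, σ (a * b) = σ a * σ b := by
    intro a b
    rcases eq_or_ne b 0 with rfl | hb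
    · rw [mul_zero, hσ, hτ0 k₁ h1, mul_zero]
    set u := e k₂ + a • e k₁ with hu
    have hu0 : u ≠ 0 := ne_zero_of_apply (i := k₂) (by simp [hu, he, h12.symm])
    obtain ⟨d, hd, hd'⟩ := hlin u hu0 (by simp [hu, he, h1.symm, h2.symm])
    obtain ⟨d2, hd2, hd2'⟩ := hlin (b • u) (smul_ne_zero hb hu0)
      (by simp [hu, he, h1.symm, h2.symm])
    obtain ⟨μ, hμ, hμe⟩ := (hf'C.prop1_iff hu0 (smul_ne_zero hb hu0)).2 ⟨b, hb, rfl⟩
    have e1 := congrFun hμe k₁
    have e2 := congrFun hμe k₂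
    rw [Pi.smul_apply, smul_eq_mul, hd' k₁ h1, hd2' k₁ h1, hτσ k₁ h1, hτσ k₁ h1] at e1
    rw [Pi.smul_apply, smul_eq_mul, hd' k₂ h2, hd2' k₂ h2, hτσ k₂ h2, hτσ k₂ h2] at e2
    simp [hu, he, h12, h12.symm, show σ 1 = 1 from hτ1 k₁ h1] at e1 e2
    rw [mul_comm b a] at e1
    apply mul_left_cancel₀ hd2
    rw [e1, ← mul_assoc d2]
    linear_combination (-σ a) * e2
  have hadd : ∀ a b, σ (a + b) = σ a + σ b := by
    intro a b
    set P := e o + a • e k₁ with hP
    set Q := b • e k₁ + e k₂ with hQ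
    have hQ0 : Q ≠ 0 := ne_zero_of_apply (i := k₂) (by simp [hQ, he, h12.symm])
    have hU0 : P + Q ≠ 0 := ne_zero_of_apply (i := o) (by simp [hP, hQ, he, h1.symm, h2.symm])
    obtain ⟨x, y, hxy⟩ := Submodule.mem_span_pair.1
      ((hf'C.line_iff _ _ _ hU0 (hvec0 k₁ h1 a) hQ0).2
        (add_mem (Submodule.subset_span (by simp [hP])) (Submodule.subset_span (by simp))))
    obtain ⟨d, hd, hd'⟩ := hlin Q hQ0 (by simp [hQ, he, h1.symm, h2.symm])
    have hUo : (P + Q) o = 1 := by simp [hP, hQ, he, h1.symm, h2.symm]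
    have a1 := haff P (by simp [hP, he, h1.symm]) k₁ h1
    have a2 := haff P (by simp [hP, he, h1.symm]) k₂ h2
    have u1 := haff (P + Q) hUo k₁ h1
    have u2 := haff (P + Q) hUo k₂ h2
    have q0 : f' Q o = 0 := by rw [hsupp _ hQ0]; simp [hQ, he, h1.symm, h2.symm]
    have hne : f' (P + Q) o ≠ 0 := by rw [Ne, hsupp _ hU0, hUo]; exact one_ne_zero
    have eo := congrFun hxy o
    have e1 := congrFun hxy k₁
    have e2 := congrFun hxy k₂
    rw [Pi.add_apply, Pi.smul_apply, Pi.smul_apply, q0] at eo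
    rw [Pi.add_apply, Pi.smul_apply, Pi.smul_apply, u1, a1, hd' k₁ h1] at e1
    rw [Pi.add_apply, Pi.smul_apply, Pi.smul_apply, u2, a2, hd' k₂ h2] at e2
    simp only [hτσ k₁ h1, hτσ k₂ h2] at e1 e2
    simp [hP, hQ, he, h12, h12.symm, h1, h2, show σ 1 = 1 from hτ1 k₁ h1,
      show σ 0 = 0 from hτ0 k₁ h1] at eo e1 e2
    refine mul_left_cancel₀ hne ?_
    linear_combination -e1 + σ b * e2 + σ a * eo
  let φ : F →+* F :=
    { toFun := σ
      map_one' := hτ1 k₁ h1
      map_mul' := hmul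
      map_zero' := hτ0 k₁ h1
      map_add' := hadd }
  have hbij : Function.Bijective φ := φ.injective.bijective_of_finite
  refine ⟨g, RingEquiv.ofBijective φ hbij, fun v hv => ?_⟩
  suffices h : Prop1 (fun i => σ (v i)) (f' v) by
    obtain ⟨d, hd, hde⟩ := h
    exact ⟨d, hd, by rw [← hgf v, hde, Matrix.mulVec_smul]; rfl⟩
  have hvs : ∃ d : F, f' v = d • fun i => σ (v i) := by
    by_cases hvo : v o = 0
    · obtain ⟨d, -, hd⟩ := hlin v hv hvo
      refine ⟨d, funext fun i => ?_⟩
      rcases eq_or_ne i o with rfl | hi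
      · rw [(hsupp v hv _).2 hvo, Pi.smul_apply, hvo, show σ 0 = 0 from hτ0 k₁ h1, smul_zero]
      · rw [hd i hi, hτσ i hi]; rfl
    · obtain ⟨μ, hμ, hμe⟩ := (hf'C.prop1_iff
        (smul_ne_zero (inv_ne_zero hvo) hv) hv).2 ⟨v o, hvo, by rw [smul_inv_smul₀ hvo]⟩
      set u := (v o)⁻¹ • v with hu
      refine ⟨μ * f' u o / σ (v o), funext fun i => ?_⟩
      have hσo : σ (v o) ≠ 0 := hτne k₁ h1 _ hvo
      rw [hμe, Pi.smul_apply, Pi.smul_apply, smul_eq_mul, smul_eq_mul]
      rcases eq_or_ne i o with rfl | hi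
      · field_simp
      · rw [haff u (by simp [hu, inv_mul_cancel₀ hvo]) i hi, hτσ i hi,
          show v i = v o * u i by simp [hu, mul_inv_cancel_left₀ hvo], hmul]
        field_simp
  obtain ⟨d, hd⟩ := hvs
  exact ⟨d, fun h0 => hf'C.ne_zero v hv (by rw [hd, h0, zero_smul]), hd⟩

end coordinates

end CfsgLib.ProjGeom
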